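import Groth.Agent.Lib.HilbertSamuel.Limit
import Mathlib.RingTheory.LocalRing.MaximalIdeal.Basic
import Mathlib.Data.Nat.Choose.Basic

/-!
# Additivity and bounds for multiplicities
-/

set_option linter.style.haveILetI false

universe u

open Filter Topology

namespace Groth.Agent.Lib.HilbertSamuel.Mult

open Basic

variable {A : Type u} [CommRing A] [IsNoetherianRing A] {I : Ideal A}

theorem hyp_of_pow_le [IsLocalRing A] {n : ℕ} (hn : IsLocalRing.maximalIdeal A ^ n ≤ I)
    (M : Type u) [AddCommGroup M] [Module A M] : Hyp I M := fun p _ hp =>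
  (IsLocalRing.maximalIdeal.isMaximal A).eq_of_le p.isPrime.ne_top
    (p.isPrime.le_of_pow_le (hn.trans hp)) ▸ IsLocalRing.maximalIdeal.isMaximal A

theorem le_jacobson [IsLocalRing A] (h : I ≤ IsLocalRing.maximalIdeal A) :
    I ≤ Ideal.jacobson ⊥ :=
  h.trans (IsLocalRing.jacobson_eq_maximalIdeal ⊥ bot_ne_top).ge

variable {M : Type u} [AddCommGroup M] [Module A M] [Module.Finite A M]

theorem chi_succ_le (hM : Hyp I M) {x : A} (hx : x ∈ I) (t : ℕ) :
    chi I M (t + 1) ≤ chi I M t +
      chi I (M ⧸ LinearMap.range (LinearMap.lsmul A M x)) (t + 1) := by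
  rw [chi_quotient hM (hM.of_surjective (LinearMap.range (LinearMap.lsmul A M x)).mkQ
    (Submodule.mkQ_surjective _)) _ (Submodule.mkQ_surjective _) (t + 1), Submodule.ker_mkQ]
  have hle : (I ^ t • ⊤ : Submodule A M) ≤
      (I ^ (t + 1) • ⊤ : Submodule A M).comap (LinearMap.lsmul A M x) :=
    fun v hv => Main.mul_mem_pow x hx t hv
  have h1 := len_map_add hM hM (LinearMap.lsmul A M x) (T := ⊤) (S := I ^ (t + 1) • ⊤) le_rfl (j := t)
    (by rw [top_inf_eq]; exact hle)
  rw [top_inf_eq, Submodule.map_top, show len (⊤ : Submodule A M) = 0 by simp [len]] at h1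
  have h2 := len_anti hM hle le_rfl
  change len (I ^ (t + 1) • ⊤ : Submodule A M) ≤ len (I ^ t • ⊤ : Submodule A M) +
    len (I ^ (t + 1) • ⊤ ⊔ LinearMap.range (LinearMap.lsmul A M x))
  lia

/-- `n` generators of `I` on `M` bound the Hilbert–Samuel function by `n`-fold sums. -/
theorem chi_le_choose : ∀ (n : ℕ) (f : Fin n → A) (M : Type u) [AddCommGroup M] [Module A M]
    [Module.Finite A M], Hyp I M → (∀ i, f i ∈ I) →
    (I • ⊤ : Submodule A M) ≤ Ideal.span (Set.range f) • ⊤ →
    ∀ t, chi I M t ≤ chi I M 1 * (t + n - 1).choose n := by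
  intro n
  induction n with
  | zero =>
    intro f M _ _ _ hM _ hI t
    rw [Set.range_eq_empty, Ideal.span_empty, Submodule.bot_smul, le_bot_iff] at hI
    rcases t with _ | t
    · simp [chi, len]
    · have : (I ^ (t + 1) • ⊤ : Submodule A M) = I • ⊤ := by
        rw [hI, pow_succ, mul_smul, hI, Submodule.smul_bot]
      simp [chi, this]
  | succ n ih =>
    intro f M _ _ _ hM hfI hI t
    let N := M ⧸ LinearMap.range (LinearMap.lsmul A M (f (Fin.last n)))
    let π : M →ₗ[A] N := (LinearMap.range (LinearMap.lsmul A M (f (Fin.last n)))).mkQ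
    have hN : Hyp I N := hM.of_surjective π (Submodule.mkQ_surjective _)
    have hIN : (I • ⊤ : Submodule A N) ≤ Ideal.span (Set.range (f ∘ Fin.castSucc)) • ⊤ := by
      have h1 : (Submodule.map π (I • ⊤)) ≤ Submodule.map π (Ideal.span (Set.range f) • ⊤) :=
        Submodule.map_mono hI
      rw [Submodule.map_smul'', Submodule.map_smul'', Submodule.map_top,
        LinearMap.range_eq_top.2 (Submodule.mkQ_surjective _)] at h1
      refine h1.trans (Submodule.smul_le.2 fun a ha v hv => ?_)
      induction ha using Submodule.span_induction with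
      | mem a ha =>
        obtain ⟨i, rfl⟩ := ha
        induction i using Fin.lastCases with
        | last =>
          obtain ⟨v, rfl⟩ := Submodule.mkQ_surjective _ v
          have h0 : π (f (Fin.last n) • v) = 0 :=
            (Submodule.Quotient.mk_eq_zero (LinearMap.range (LinearMap.lsmul A M (f (Fin.last n))))).2 ⟨v, rfl⟩
          rw [← map_smul]
          change π (f (Fin.last n) • v) ∈ _
          rw [h0]
          exact zero_mem _
        | cast i => exact Submodule.smul_mem_smul (Ideal.subset_span ⟨i, rfl⟩) hv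
      | zero => simp
      | add a b _ _ ha hb => rw [add_smul]; exact add_mem ha hb
      | smul r a _ ha => rw [smul_assoc]; exact Submodule.smul_mem _ r ha
    have hN1 : chi I N 1 = chi I M 1 := by
      rw [chi_quotient hM hN π (Submodule.mkQ_surjective _) 1, Submodule.ker_mkQ, chi, sup_eq_left.2]
      rintro _ ⟨v, rfl⟩
      rw [pow_one]
      exact Submodule.smul_mem_smul (hfI _) Submodule.mem_top
    induction t with
    | zero => simp [chi, len]
    | succ t iht =>
      refine (chi_succ_le hM (hfI (Fin.last n)) t).trans ?_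
      refine (Nat.add_le_add iht (ih (f ∘ Fin.castSucc) N hN (fun i => hfI _) hIN (t + 1))).trans ?_
      rw [hN1, ← mul_add, show t + 1 + (n + 1) - 1 = t + n + 1 by lia, show t + 1 + n - 1 = t + n by lia,
        show t + (n + 1) - 1 = t + n by lia, Nat.choose_succ_succ, add_comm]

theorem tendsto_add {M' M'' : Type u} [AddCommGroup M'] [Module A M'] [Module.Finite A M']
    [AddCommGroup M''] [Module A M''] [Module.Finite A M''] (hM : Hyp I M)
    (f : M' →ₗ[A] M) (g : M →ₗ[A] M'') (hf : Function.Injective f) (hg : Function.Surjective g)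
    (hfg : LinearMap.range f = LinearMap.ker g) {d : ℕ} {e' e'' : ℝ}
    (h' : Tendsto (fun t : ℕ => (chi I M' t : ℝ) / (t : ℝ) ^ d) atTop (𝓝 e'))
    (h'' : Tendsto (fun t : ℕ => (chi I M'' t : ℝ) / (t : ℝ) ^ d) atTop (𝓝 e'')) :
    Tendsto (fun t : ℕ => (chi I M t : ℝ) / (t : ℝ) ^ d) atTop (𝓝 (e' + e'')) := by
  have hM' : Hyp I M' := hM.of_injective f hf
  have hM'' : Hyp I M'' := hM.of_surjective g hg
  obtain ⟨c, hc⟩ := I.exists_pow_inf_eq_pow_smul (LinearMap.range f)
  let a : ℕ → ℕ := fun t => len ((I ^ t • ⊤ : Submodule A M).comap f)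
  have hsum : ∀ t, chi I M t = a t + chi I M'' t := by
    intro t
    have h1 := len_map_add hM' hM f (T := ⊤) (S := I ^ t • ⊤) le_rfl (j := t)
      (by rw [top_inf_eq]; exact smul_top_le_comap _ f)
    rw [top_inf_eq, Submodule.map_top, show len (⊤ : Submodule A M') = 0 by simp [len]] at h1
    rw [chi_quotient hM hM'' g hg t, ← hfg]
    change len (I ^ t • ⊤ : Submodule A M) = _
    lia
  have hle : ∀ t, a t ≤ chi I M' t := fun t =>
    len_anti hM' (smul_top_le_comap _ f) le_rfl
  have hge : ∀ t, c ≤ t → chi I M' (t - c) ≤ a t := by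
    intro t ht
    refine len_anti hM' ?_ (smul_top_le_comap _ f)
    intro v hv
    have h3 : f v ∈ ((I ^ t • ⊤) ⊓ LinearMap.range f : Submodule A M) := ⟨hv, v, rfl⟩
    rw [hc t ht] at h3
    have h4 : f v ∈ (I ^ (t - c) • LinearMap.range f : Submodule A M) :=
      Submodule.smul_mono le_rfl inf_le_right h3
    rw [← Submodule.map_top, ← Submodule.map_smul''] at h4
    obtain ⟨w, hw, hwv⟩ := h4
    rwa [← hf hwv]
  have ha : Tendsto (fun t : ℕ => (a t : ℝ) / (t : ℝ) ^ d) atTop (𝓝 e') := by
    refine tendsto_of_tendsto_of_tendsto_of_le_of_le' (Limit.tendsto_shift (c := c) h') h' ?_ ?_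
    · filter_upwards [eventually_ge_atTop c] with t ht
      gcongr
      exact hge t ht
    · exact .of_forall fun t => by gcongr; exact hle t
  refine (ha.add h'').congr fun t => ?_
  rw [hsum t, Nat.cast_add, add_div]

end Groth.Agent.Lib.HilbertSamuel.Mult
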