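import Groth.Agent.Lib.HilbertSamuel.Main
import Mathlib.RingTheory.Ideal.AssociatedPrime.Localization
import Mathlib.RingTheory.Ideal.MinimalPrime.Noetherian

/-!
# The growth of the Hilbert–Samuel function is the dimension of the support
-/

set_option linter.style.haveILetI false

universe u

open Filter Polynomial

namespace Groth.Agent.Lib.HilbertSamuel.Dim

open Basic Poly Main

variable {A : Type u} [CommRing A] [IsNoetherianRing A] {I : Ideal A}

theorem supportDim_le_of_forall {M : Type u} [AddCommGroup M] [Module A M] {n : ℕ}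
    (h : ∀ l : LTSeries (Module.support A M), l.length ≤ n) : Module.supportDim A M ≤ n :=
  iSup_le fun l => by exact_mod_cast h l

theorem length_le_of_supportDim_le {M : Type u} [AddCommGroup M] [Module A M] {n : ℕ}
    (h : Module.supportDim A M ≤ n) (l : LTSeries (Module.support A M)) : l.length ≤ n := by
  have := (Order.LTSeries.length_le_krullDim l).trans h
  exact_mod_cast this

theorem chi_le_of_injective {M N : Type u} [AddCommGroup M] [Module A M] [Module.Finite A M]
    [AddCommGroup N] [Module A N] [Module.Finite A N] (hM : Hyp I M) (f : N →ₗ[A] M)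
    (hf : Function.Injective f) : ∃ c : ℕ, ∀ t, chi I N t ≤ chi I M (t + c) := by
  obtain ⟨c, hc⟩ := I.exists_pow_inf_eq_pow_smul (LinearMap.range f)
  refine ⟨c, fun t => le_trans ?_ (len_comap_le (hM.of_injective f hf) hM f (S := I ^ (t + c) • ⊤) le_rfl)⟩
  refine len_anti (hM.of_injective f hf) ?_ (k := t + c) (smul_top_le_comap _ f)
  intro v hv
  have h1 : f v ∈ ((I ^ (t + c) • ⊤) ⊓ LinearMap.range f : Submodule A M) := ⟨hv, v, rfl⟩
  rw [hc (t + c) (by lia), Nat.add_sub_cancel] at h1
  have h2 : f v ∈ (I ^ t • LinearMap.range f : Submodule A M) :=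
    Submodule.smul_mono le_rfl inf_le_right h1
  rw [← Submodule.map_top, ← Submodule.map_smul''] at h2
  obtain ⟨w, hw, hwv⟩ := h2
  rwa [← hf hwv]

theorem mem_jacobson_smul {M : Type u} [AddCommGroup M] [Module A M] [Module.Finite A M]
    (hJ : I ≤ Ideal.jacobson ⊥) {t : ℕ} (h : (I ^ (t + 1) • ⊤ : Submodule A M) = I ^ t • ⊤) :
    (I ^ t • ⊤ : Submodule A M) = ⊥ := by
  refine Submodule.eq_bot_of_le_smul_of_le_jacobson_bot I _ (IsNoetherian.noetherian _) ?_ hJ
  rw [← mul_smul, ← pow_succ', h]

theorem supportDim_le_zero {M : Type u} [AddCommGroup M] [Module A M] [Module.Finite A M]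
    (hJ : I ≤ Ideal.jacobson ⊥) (hM : Hyp I M) (hg : Growth (chi I M) 0) :
    Module.supportDim A M ≤ ((0 : ℕ) : WithBot ℕ∞) := by
  obtain ⟨C, hC⟩ := hg
  have hmono : ∀ t, chi I M t ≤ chi I M (t + 1) := fun t =>
    len_anti hM (Submodule.smul_mono_left (Ideal.pow_le_pow_right (Nat.le_succ t))) le_rfl
  obtain ⟨t, ht⟩ : ∃ t, chi I M (t + 1) = chi I M t := by
    by_contra hne
    simp only [not_exists] at hne
    have : ∀ t, t ≤ chi I M t := fun t => by
      induction t with
      | zero => lia
      | succ t ih => have := hmono t; have := hne t; lia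
    have := this (C + 1)
    have := hC (C + 1)
    simp at this
    lia
  have hle : (I ^ (t + 1) • ⊤ : Submodule A M) ≤ I ^ t • ⊤ :=
    Submodule.smul_mono_left (Ideal.pow_le_pow_right (Nat.le_succ t))
  obtain ⟨n, hn, hn'⟩ := length_map_eq hM hle le_rfl
  change chi I M (t + 1) = n + chi I M t at hn'
  have hn0 : n = 0 := by lia
  rw [hn0, Nat.cast_zero, Module.length_eq_zero_iff, Submodule.subsingleton_iff_eq_bot,
    ← le_bot_iff, Submodule.map_le_iff_le_comap, Submodule.comap_bot, Submodule.ker_mkQ] at hn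
  have hbot := mem_jacobson_smul hJ (le_antisymm hle hn)
  refine supportDim_le_of_forall fun l => ?_
  have hmax : ∀ q : Module.support A M, q.1.asIdeal.IsMaximal := fun q =>
    hM q.1 q.2 fun a ha => q.1.isPrime.mem_of_pow_mem t
      ((PrimeSpectrum.mem_zeroLocus _ _).1 (Module.support_eq_zeroLocus.subset q.2)
        (Module.mem_annihilator.2 fun z => by
          have : a ^ t • z ∈ (I ^ t • ⊤ : Submodule A M) :=
            Submodule.smul_mem_smul (Ideal.pow_mem_pow ha t) Submodule.mem_top
          rw [hbot] at this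
          exact this))
  by_contra hl
  have h01 := l.step ⟨0, by lia⟩
  exact h01.ne (Subtype.ext (PrimeSpectrum.ext
    ((hmax _).eq_of_le (hmax _).isPrime.ne_top h01.le)))

theorem supportDim_le_of_growth (hJ : I ≤ Ideal.jacobson ⊥) : ∀ (n : ℕ) (M : Type u) [AddCommGroup M]
    [Module A M] [Module.Finite A M], Hyp I M → Growth (chi I M) n → Module.supportDim A M ≤ n := by
  intro n
  induction n with
  | zero => exact fun M _ _ _ hM hg => supportDim_le_zero hJ hM hg
  | succ n ih =>
    intro M _ _ _ hM hg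
    refine supportDim_le_of_forall fun l => ?_
    by_contra hl
    have hpos : 0 < l.length := by lia
    obtain ⟨p, hp, hpl⟩ := Ideal.exists_minimalPrimes_le (I := Module.annihilator A M)
      ((PrimeSpectrum.mem_zeroLocus _ _).1 (Module.support_eq_zeroLocus.subset (l 0).2))
    have hass := Module.associatedPrimes.minimalPrimes_annihilator_subset_associatedPrimes A M hp
    haveI hpp : p.IsPrime := hp.1.1
    obtain ⟨-, m, hm⟩ := isAssociatedPrime_iff.1 hass
    let f : (A ⧸ p) →ₗ[A] M := Submodule.liftQ p (LinearMap.toSpanSingleton A M m) (by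
      intro a ha; rw [LinearMap.mem_ker]; rw [hm] at ha; simpa [Submodule.mem_colon_singleton] using ha)
    have hf : Function.Injective f := by
      rw [← LinearMap.ker_eq_bot, Submodule.ker_liftQ_eq_bot]
      intro a ha
      rw [hm]; simpa [Submodule.mem_colon_singleton] using ha
    have hN : Hyp I (A ⧸ p) := hM.of_injective f hf
    have h01 := l.step ⟨0, hpos⟩
    obtain ⟨x, hx1, hxp⟩ := SetLike.exists_of_lt (lt_of_le_of_lt hpl (show (l 0).1.asIdeal < (l (Fin.succ ⟨0, hpos⟩)).1.asIdeal from h01))
    let g : (A ⧸ p) →ₗ[A] (A ⧸ p) := LinearMap.lsmul A (A ⧸ p) x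
    have hg_inj : Function.Injective g := by
      rw [← LinearMap.ker_eq_bot, LinearMap.ker_eq_bot']
      intro v hv
      obtain ⟨v, rfl⟩ := Ideal.Quotient.mk_surjective v
      change Ideal.Quotient.mk p (x * v) = 0 at hv
      rw [Ideal.Quotient.eq_zero_iff_mem] at hv
      exact Ideal.Quotient.eq_zero_iff_mem.2 ((hpp.mem_or_mem hv).resolve_left hxp)
    obtain ⟨c₁, hc₁⟩ := chi_le_of_injective hM f hf
    obtain ⟨P, hP⟩ := Main.exists_poly hN
    have hPdeg : P.natDegree ≤ n + 1 := by
      refine natDegree_le_of_growth hP ?_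
      obtain ⟨C, hC⟩ := hg
      refine ⟨C * (c₁ + 1) ^ (n + 1), fun t => ((hc₁ t).trans (hC _)).trans ?_⟩
      rw [mul_assoc, ← mul_pow]
      exact Nat.mul_le_mul_left _ (Nat.pow_le_pow_left (by nlinarith) _)
    let N' := (A ⧸ p) ⧸ LinearMap.range g
    let π : (A ⧸ p) →ₗ[A] N' := (LinearMap.range g).mkQ
    have hN' : Hyp I N' := hN.of_surjective π (LinearMap.range g).mkQ_surjective
    obtain ⟨c, hc⟩ := I.exists_pow_inf_eq_pow_smul (LinearMap.range g)
    have hkey : ∀ t, c ≤ t → chi I N' t + chi I (A ⧸ p) (t - c) ≤ chi I (A ⧸ p) t := by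
      intro t ht
      rw [chi_quotient hN hN' π (LinearMap.range g).mkQ_surjective t, Submodule.ker_mkQ]
      have hS' : (I ^ t • ⊤ : Submodule A (A ⧸ p)) ≤ ⊤ ⊓ (I ^ t • ⊤ : Submodule A (A ⧸ p)).comap g := by
        rw [top_inf_eq]; exact smul_top_le_comap _ g
      have h1 := len_map_add hN hN g (T := ⊤) (S := I ^ t • ⊤) le_rfl hS'
      rw [top_inf_eq, Submodule.map_top, show len (⊤ : Submodule A (A ⧸ p)) = 0 by simp [len]] at h1
      have h2 : len (I ^ (t - c) • ⊤ : Submodule A (A ⧸ p)) ≤
          len ((I ^ t • ⊤ : Submodule A (A ⧸ p)).comap g) := by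
        refine len_anti hN ?_ (smul_top_le_comap _ g)
        intro v hv
        have h3 : g v ∈ ((I ^ t • ⊤) ⊓ LinearMap.range g : Submodule A (A ⧸ p)) := ⟨hv, v, rfl⟩
        rw [hc t ht] at h3
        have h4 : g v ∈ (I ^ (t - c) • LinearMap.range g : Submodule A (A ⧸ p)) :=
          Submodule.smul_mono le_rfl inf_le_right h3
        rw [← Submodule.map_top, ← Submodule.map_smul''] at h4
        obtain ⟨w, hw, hwv⟩ := h4
        rwa [← hg_inj hwv]
      change len (I ^ t • ⊤ ⊔ LinearMap.range g) + len (I ^ (t - c) • ⊤ : Submodule A (A ⧸ p)) ≤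
        len (I ^ t • ⊤ : Submodule A (A ⧸ p))
      lia
    have hgN' : Growth (chi I N') n := by
      refine growth_of_le_poly (natDegree_sub_comp_le hPdeg (c : ℚ)) ?_
      filter_upwards [hP, (tendsto_sub_atTop_nat c).eventually hP, eventually_ge_atTop c] with t h1 h2 ht
      have := hkey t ht
      have h3 : (chi I N' t : ℚ) + chi I (A ⧸ p) (t - c) ≤ chi I (A ⧸ p) t := by exact_mod_cast this
      rw [h1, h2, Nat.cast_sub ht] at h3
      rw [eval_sub, eval_comp, eval_sub, eval_X, eval_C]
      linarith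
    have hdim := ih N' hN' hgN'
    have hsupp : ∀ i : Fin (l.length + 1), 0 < i.1 → (l i).1 ∈ Module.support A N' := by
      intro i hi
      have hle : (l (Fin.succ ⟨0, hpos⟩)).1.asIdeal ≤ (l i).1.asIdeal :=
        l.monotone (Fin.le_iff_val_le_val.2 hi)
      have hxi : x ∈ (l i).1.asIdeal := hle hx1
      have hpi : p ≤ (l i).1.asIdeal := hpl.trans (l.monotone (Fin.zero_le i))
      have hN'e : N' = ((A ⧸ p) ⧸ LinearMap.range g) := rfl
      refine (Module.mem_support_iff_exists_annihilator).2 ⟨π 1, fun a ha => ?_⟩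
      rw [Submodule.mem_annihilator_span_singleton, ← map_smul, Submodule.mkQ_apply,
        Submodule.Quotient.mk_eq_zero] at ha
      obtain ⟨w, hw⟩ := ha
      obtain ⟨w, rfl⟩ := Ideal.Quotient.mk_surjective w
      change x • Ideal.Quotient.mk p w = a • (1 : A ⧸ p) at hw
      rw [Algebra.smul_def, Algebra.smul_def, Ideal.Quotient.algebraMap_eq, mul_one, ← map_mul,
        Ideal.Quotient.eq] at hw
      have := (l i).1.asIdeal.sub_mem ((l i).1.asIdeal.mul_mem_right w hxi) (hpi hw)
      simpa using this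
    let l' : LTSeries (Module.support A N') :=
      { length := l.length - 1
        toFun := fun i => ⟨(l ⟨i.1 + 1, by lia⟩).1, hsupp _ (Nat.succ_pos _)⟩
        step := fun i => (l.strictMono (a := ⟨i.1 + 1, by lia⟩) (b := ⟨i.1 + 1 + 1, by lia⟩)
          (Fin.lt_iff_val_lt_val.2 (by simp)) :) }
    have := length_le_of_supportDim_le hdim l'
    change l.length - 1 ≤ n at this
    lia

theorem growth_of_supportDim_le (hJ : I ≤ Ideal.jacobson ⊥) : ∀ (n : ℕ) (M : Type u) [AddCommGroup M]
    [Module A M] [Module.Finite A M], Hyp I M → Module.supportDim A M ≤ n → Growth (chi I M) n := by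
  intro n
  induction n with
  | zero =>
    intro M _ _ _ hM hd
    have hlt := CycAlg.Smul.length_lt_top_of_supportDim_le_zero M (by simpa using hd)
    refine ⟨(Module.length A M).toNat, fun t => ?_⟩
    rw [pow_zero, mul_one, chi, len]
    exact ENat.toNat_le_toNat (Module.length_le_of_surjective (Submodule.mkQ _) (Submodule.mkQ_surjective _)) hlt.ne
  | succ n ih =>
    intro M _ _ _ hM hd
    classical
    have hfin : {p | p ∈ (Module.annihilator A M).minimalPrimes ∧ ¬ I ≤ p}.Finite :=
      ((Module.annihilator A M).finite_minimalPrimes_of_isNoetherianRing A).subset fun p hp => hp.1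
    obtain ⟨x, hxI, hx⟩ : ∃ x ∈ I, ∀ p ∈ {p | p ∈ (Module.annihilator A M).minimalPrimes ∧ ¬ I ≤ p}, x ∉ p := by
      by_contra hc
      simp only [not_exists, not_and, not_forall, not_not, exists_prop] at hc
      have hsub : (I : Set A) ⊆ ⋃ p ∈ (hfin.toFinset : Set (Ideal A)), (p : Set A) := fun a ha => by
        obtain ⟨p, hp, hap⟩ := hc a ha
        exact Set.mem_iUnion₂.2 ⟨p, hfin.mem_toFinset.2 hp, hap⟩
      obtain ⟨p, hp, hIp⟩ := (Ideal.subset_union_prime (f := id) ⊥ ⊥
        (fun p hp _ _ => (hfin.mem_toFinset.1 hp).1.1.1)).1 hsub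
      exact (hfin.mem_toFinset.1 hp).2 hIp
    let g : M →ₗ[A] M := LinearMap.lsmul A M x
    let N' := M ⧸ LinearMap.range g
    let π : M →ₗ[A] N' := (LinearMap.range g).mkQ
    have hN' : Hyp I N' := hM.of_surjective π (LinearMap.range g).mkQ_surjective
    have hdim : Module.supportDim A N' ≤ n := by
      refine supportDim_le_of_forall fun l => ?_
      have hann : ∀ i, Module.annihilator A N' ≤ (l i).1.asIdeal := fun i =>
        (PrimeSpectrum.mem_zeroLocus _ _).1 (Module.support_eq_zeroLocus.subset (l i).2)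
      have hx0 : x ∈ (l 0).1.asIdeal := hann 0 (Module.mem_annihilator.2 fun z => by
        obtain ⟨z, rfl⟩ := (LinearMap.range g).mkQ_surjective z
        rw [← map_smul, Submodule.mkQ_apply, Submodule.Quotient.mk_eq_zero]
        exact ⟨z, rfl⟩)
      have hM0 : Module.annihilator A M ≤ (l 0).1.asIdeal :=
        (π.annihilator_le_of_surjective (LinearMap.range g).mkQ_surjective).trans (hann 0)
      obtain ⟨p, hp, hple⟩ := Ideal.exists_minimalPrimes_le hM0
      haveI := hp.1.1
      have hpsupp : (⟨p, hp.1.1⟩ : PrimeSpectrum A) ∈ Module.support A M := by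
        rw [Module.support_eq_zeroLocus]; exact hp.1.2
      by_cases hIp : I ≤ p
      · have hmax := hM _ hpsupp hIp
        by_contra hl
        have h0 : p = (l 0).1.asIdeal := hmax.eq_of_le (l 0).1.isPrime.ne_top hple
        have h01 := l.step ⟨0, by lia⟩
        exact (lt_of_le_of_lt h0.le (show (l 0).1.asIdeal < (l _).1.asIdeal from h01)).ne
          (hmax.eq_of_le (l (Fin.succ ⟨0, by lia⟩)).1.isPrime.ne_top (hple.trans (l.monotone (Fin.zero_le _))))
      · have hne : (⟨p, hp.1.1⟩ : PrimeSpectrum A) < (l 0).1 := by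
          refine lt_of_le_of_ne hple fun he => hx p ⟨hp, hIp⟩ ?_
          rw [← show p = (l 0).1.asIdeal from congrArg PrimeSpectrum.asIdeal he] at hx0
          exact hx0
        let l' : LTSeries (Module.support A M) := (l.map (fun q => (⟨q.1,
          Module.support_subset_of_surjective π (LinearMap.range g).mkQ_surjective q.2⟩ :
            Module.support A M)) (fun _ _ h => h)).cons ⟨_, hpsupp⟩ hne
        have := length_le_of_supportDim_le hd l'
        have h2 : l'.length = l.length + 1 := by simp [l', LTSeries.map]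
        lia
    obtain ⟨C, hC⟩ := ih N' hN' hdim
    have hstep : ∀ t, chi I M (t + 1) ≤ chi I M t + chi I N' (t + 1) := by
      intro t
      rw [chi_quotient hM hN' π (LinearMap.range g).mkQ_surjective (t + 1), Submodule.ker_mkQ]
      have hle : (I ^ t • ⊤ : Submodule A M) ≤ (I ^ (t + 1) • ⊤ : Submodule A M).comap g :=
        fun v hv => mul_mem_pow x hxI t hv
      have h1 := len_map_add hM hM g (T := ⊤) (S := I ^ (t + 1) • ⊤) le_rfl (j := t)
        (by rw [top_inf_eq]; exact hle)
      rw [top_inf_eq, Submodule.map_top, show len (⊤ : Submodule A M) = 0 by simp [len]] at h1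
      have h2 := len_anti hM hle le_rfl
      change len (I ^ (t + 1) • ⊤ : Submodule A M) ≤ len (I ^ t • ⊤ : Submodule A M) +
        len (I ^ (t + 1) • ⊤ ⊔ LinearMap.range g)
      lia
    refine ⟨C + chi I M 0, fun t => ?_⟩
    suffices h : chi I M t ≤ chi I M 0 + C * (t + 1) ^ (n + 1) by
      refine h.trans ?_
      rw [add_mul, add_comm]
      exact Nat.add_le_add_left (Nat.le_mul_of_pos_right _ (by positivity)) _
    induction t with
    | zero => simp
    | succ t iht =>
      calc chi I M (t + 1) ≤ chi I M t + chi I N' (t + 1) := hstep t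
        _ ≤ chi I M 0 + C * (t + 1) ^ (n + 1) + C * (t + 1 + 1) ^ n := Nat.add_le_add iht (hC _)
        _ ≤ chi I M 0 + C * ((t + 1) * (t + 1 + 1) ^ n + (t + 1 + 1) ^ n) := by
          rw [add_assoc, ← mul_add]
          refine Nat.add_le_add_left (Nat.mul_le_mul_left _ (Nat.add_le_add_right ?_ _)) _
          rw [pow_succ']
          exact Nat.mul_le_mul_left _ (Nat.pow_le_pow_left (Nat.le_succ _) _)
        _ = _ := by ring

end Groth.Agent.Lib.HilbertSamuel.Dim
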