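import Mathlib.NumberTheory.BernoulliPolynomials
import Mathlib.Analysis.Polynomial.Basic
import Mathlib.Algebra.Polynomial.Taylor
import Mathlib.Topology.Instances.Rat
import Mathlib.Topology.Algebra.Order.Field

/-!
# Eventually polynomial functions and their growth
-/

open Polynomial Filter

namespace Groth.Agent.Lib.HilbertSamuel.Poly

/-- Eventually given by a rational polynomial. -/
def EvPoly (f : ℕ → ℤ) : Prop := ∃ P : ℚ[X], ∀ᶠ t in atTop, (f t : ℚ) = P.eval (t : ℚ)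

theorem EvPoly.congr {f g : ℕ → ℤ} (hf : EvPoly f) (h : ∀ᶠ t in atTop, f t = g t) : EvPoly g := by
  obtain ⟨P, hP⟩ := hf
  exact ⟨P, by filter_upwards [hP, h] with t h1 h2; rwa [← h2]⟩

theorem EvPoly.add {f g : ℕ → ℤ} (hf : EvPoly f) (hg : EvPoly g) : EvPoly fun t => f t + g t := by
  obtain ⟨P, hP⟩ := hf
  obtain ⟨Q, hQ⟩ := hg
  exact ⟨P + Q, by filter_upwards [hP, hQ] with t h1 h2; rw [Int.cast_add, h1, h2, eval_add]⟩

theorem EvPoly.succ {f : ℕ → ℤ} (hf : EvPoly f) : EvPoly fun t => f (t + 1) := by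
  obtain ⟨P, hP⟩ := hf
  refine ⟨P.comp (X + C 1), ?_⟩
  filter_upwards [(tendsto_add_atTop_nat 1).eventually hP] with t h
  rw [h, eval_comp]; simp

theorem EvPoly.of_succ {f : ℕ → ℤ} (hf : EvPoly fun t => f (t + 1)) : EvPoly f := by
  obtain ⟨P, hP⟩ := hf
  obtain ⟨T, hT⟩ := eventually_atTop.1 hP
  refine ⟨P.comp (X - C 1), eventually_atTop.2 ⟨T + 1, fun t ht => ?_⟩⟩
  obtain ⟨s, rfl⟩ : ∃ s, t = s + 1 := ⟨t - 1, by lia⟩
  rw [hT s (by lia), eval_comp]; simp

theorem evPoly_zero : EvPoly fun _ => 0 := ⟨0, .of_forall fun _ => by simp⟩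

theorem exists_antidiff (P : ℚ[X]) : ∃ Q : ℚ[X], ∀ x : ℚ, Q.eval (1 + x) - Q.eval x = P.eval x := by
  refine ⟨∑ d ∈ Finset.range (P.natDegree + 1),
    C (P.coeff d / (d + 1 : ℕ)) * Polynomial.bernoulli (d + 1), fun x => ?_⟩
  rw [eval_finsetSum, eval_finsetSum, ← Finset.sum_sub_distrib, eval_eq_sum_range]
  refine Finset.sum_congr rfl fun d _ => ?_
  simp only [eval_mul, eval_C, Polynomial.bernoulli_eval_one_add, Nat.add_sub_cancel]
  have hd : ((d + 1 : ℕ) : ℚ) ≠ 0 := by positivity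
  field_simp
  ring

theorem EvPoly.of_diff {f g : ℕ → ℤ} (hg : EvPoly g) (h : ∀ᶠ t in atTop, f (t + 1) = f t + g t) :
    EvPoly f := by
  obtain ⟨P, hP⟩ := hg
  obtain ⟨Q, hQ⟩ := exists_antidiff P
  obtain ⟨T, hT⟩ := eventually_atTop.1 (hP.and h)
  refine ⟨Q + C ((f T : ℚ) - Q.eval (T : ℚ)), eventually_atTop.2 ⟨T, fun t ht => ?_⟩⟩
  induction t, ht using Nat.le_induction with
  | base => simp
  | succ t ht ih =>
    rw [(hT t ht).2, Int.cast_add, ih, (hT t ht).1, ← hQ]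
    simp only [eval_add, eval_C, Nat.cast_add, Nat.cast_one]
    rw [add_comm (t : ℚ) 1]; ring

/-- Growth at most `t ^ n`. -/
def Growth (f : ℕ → ℕ) (n : ℕ) : Prop := ∃ C : ℕ, ∀ t, f t ≤ C * (t + 1) ^ n

theorem Growth.of_eventually {f : ℕ → ℕ} {n C : ℕ} (h : ∀ᶠ t in atTop, f t ≤ C * (t + 1) ^ n) :
    Growth f n := by
  obtain ⟨T, hT⟩ := eventually_atTop.1 h
  refine ⟨C + ∑ t ∈ Finset.range T, f t, fun t => ?_⟩
  have h1 : 1 ≤ (t + 1) ^ n := Nat.one_le_pow _ _ (by lia)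
  rcases le_or_gt T t with ht | ht
  · exact (hT t ht).trans (Nat.mul_le_mul_right _ (Nat.le_add_right _ _))
  · calc f t ≤ C + ∑ s ∈ Finset.range T, f s :=
          (Finset.single_le_sum (fun _ _ => Nat.zero_le _) (Finset.mem_range.2 ht)).trans
            (Nat.le_add_left _ _)
      _ ≤ _ := Nat.le_mul_of_pos_right _ h1

theorem abs_eval_le (P : ℚ[X]) {n : ℕ} (hn : P.natDegree ≤ n) (t : ℕ) :
    |P.eval (t : ℚ)| ≤ (∑ i ∈ Finset.range (n + 1), |P.coeff i|) * ((t : ℚ) + 1) ^ n := by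
  rw [eval_eq_sum_range' (Nat.lt_succ_iff.2 hn), Finset.sum_mul]
  refine (Finset.abs_sum_le_sum_abs _ _).trans (Finset.sum_le_sum fun i hi => ?_)
  rw [abs_mul, abs_pow, Nat.abs_cast]
  refine mul_le_mul_of_nonneg_left ?_ (abs_nonneg _)
  calc (t : ℚ) ^ i ≤ ((t : ℚ) + 1) ^ i := pow_le_pow_left₀ (by positivity) (by linarith) i
    _ ≤ _ := pow_le_pow_right₀ (le_add_of_nonneg_left (by positivity))
        (Nat.lt_succ_iff.1 (Finset.mem_range.1 hi))

theorem growth_of_le_poly {f : ℕ → ℕ} {P : ℚ[X]} {n : ℕ} (hn : P.natDegree ≤ n)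
    (h : ∀ᶠ t in atTop, (f t : ℚ) ≤ P.eval (t : ℚ)) : Growth f n := by
  obtain ⟨C, hC⟩ := exists_nat_ge (∑ i ∈ Finset.range (n + 1), |P.coeff i|)
  refine Growth.of_eventually (C := C) ?_
  filter_upwards [h] with t ht
  have := (ht.trans (le_abs_self _)).trans ((abs_eval_le P hn t).trans
    (mul_le_mul_of_nonneg_right hC (by positivity)))
  exact_mod_cast this

theorem natDegree_le_of_growth {f : ℕ → ℕ} {P : ℚ[X]} {n : ℕ}
    (h : ∀ᶠ t in atTop, (f t : ℚ) = P.eval (t : ℚ)) (hf : Growth f n) : P.natDegree ≤ n := by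
  obtain ⟨C, hC⟩ := hf
  by_contra hn
  simp only [not_le] at hn
  have hdeg : ((X + Polynomial.C (1 : ℚ)) ^ n).degree < P.degree := by
    rw [degree_pow, degree_X_add_C, nsmul_one, degree_eq_natDegree (fun hP => by simp [hP] at hn)]
    exact_mod_cast hn
  have hlim := (abs_div_tendsto_atTop_atTop_of_degree_gt P _ hdeg
    (pow_ne_zero _ (X_add_C_ne_zero 1))).comp tendsto_natCast_atTop_atTop
  obtain ⟨t, ht1, ht2⟩ := ((hlim.eventually_gt_atTop (C : ℚ)).and h).exists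
  simp only [Function.comp_apply, eval_pow, eval_add, eval_X, eval_C, ← ht2] at ht1
  rw [abs_div, Nat.abs_cast, lt_div_iff₀ (by positivity), abs_of_nonneg (by positivity)] at ht1
  have : (f t : ℚ) ≤ C * ((t : ℚ) + 1) ^ n := by exact_mod_cast hC t
  linarith

theorem natDegree_sub_comp_le {P : ℚ[X]} {n : ℕ} (hn : P.natDegree ≤ n + 1) (c : ℚ) :
    (P - P.comp (X - C c)).natDegree ≤ n := by
  have e : P.comp (X - C c) = taylor (-c) P := by rw [taylor_apply, map_neg, sub_eq_add_neg]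
  rw [e, natDegree_le_iff_coeff_eq_zero]
  intro m hm
  rw [coeff_sub]
  rcases lt_trichotomy m P.natDegree with h | h | h
  · lia
  · rw [h, coeff_taylor_natDegree, coeff_natDegree, sub_self]
  · rw [coeff_eq_zero_of_natDegree_lt h,
      coeff_eq_zero_of_natDegree_lt (by rwa [natDegree_taylor]), sub_zero]

end Groth.Agent.Lib.HilbertSamuel.Poly
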