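import Groth.Agent.Lib.CycAlg.Smul
import Mathlib.RingTheory.Filtration
import Mathlib.RingTheory.Length
import Mathlib.RingTheory.KrullDimension.Module

/-!
# Lengths of quotients by submodules containing a power of an ideal of definition

`Hyp I M`: every prime of the support of `M` containing `I` is maximal.
`len S`: the natural-number length of `M ⧸ S`. `chi I M t = len (I ^ t • ⊤)`.
-/

set_option linter.style.haveILetI false

universe u

namespace Groth.Agent.Lib.HilbertSamuel.Basic

variable {A : Type u} [CommRing A]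

/-- Primes of the support containing `I` are maximal. -/
def Hyp (I : Ideal A) (M : Type u) [AddCommGroup M] [Module A M] : Prop :=
  ∀ p ∈ Module.support A M, I ≤ p.asIdeal → p.asIdeal.IsMaximal

variable {I : Ideal A} {M : Type u} [AddCommGroup M] [Module A M]
  {N : Type u} [AddCommGroup N] [Module A N]

theorem Hyp.of_injective (h : Hyp I M) (f : N →ₗ[A] M) (hf : Function.Injective f) : Hyp I N :=
  fun p hp hI => h p (Module.support_subset_of_injective f hf hp) hI

theorem Hyp.of_surjective (h : Hyp I M) (f : M →ₗ[A] N) (hf : Function.Surjective f) : Hyp I N :=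
  fun p hp hI => h p (Module.support_subset_of_surjective f hf hp) hI

/-- The length of `M ⧸ S` as a natural number. -/
noncomputable def len (S : Submodule A M) : ℕ := (Module.length A (M ⧸ S)).toNat

/-- The Hilbert–Samuel function. -/
noncomputable def chi (I : Ideal A) (M : Type u) [AddCommGroup M] [Module A M] (t : ℕ) : ℕ :=
  len (I ^ t • ⊤ : Submodule A M)

theorem smul_top_le_comap (J : Ideal A) (f : M →ₗ[A] N) :
    (J • ⊤ : Submodule A M) ≤ (J • ⊤ : Submodule A N).comap f := by
  rw [← Submodule.map_le_iff_le_comap, Submodule.map_smul'']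
  exact Submodule.smul_mono le_rfl le_top

theorem length_map_mkQ_add (S T : Submodule A M) (h : S ≤ T) :
    Module.length A (M ⧸ S) = Module.length A (T.map S.mkQ) + Module.length A (M ⧸ T) := by
  rw [Module.length_eq_add_of_exact (T.map S.mkQ).subtype (T.map S.mkQ).mkQ
    (Submodule.injective_subtype _) (Submodule.mkQ_surjective _) (LinearMap.exact_subtype_mkQ _),
    (Submodule.quotientQuotientEquivQuotient S T h).length_eq]

theorem range_mkQ_comp (g : M →ₗ[A] N) (T : Submodule A M) (S : Submodule A N) :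
    LinearMap.range (S.mkQ.comp (g.comp T.subtype)) = (S ⊔ T.map g).map S.mkQ := by
  rw [LinearMap.range_comp, LinearMap.range_comp, Submodule.range_subtype, Submodule.map_sup,
    S.mkQ_map_self, bot_sup_eq]

variable [IsNoetherianRing A] [Module.Finite A M] [Module.Finite A N]

theorem length_lt_top (h : Hyp I M) {S : Submodule A M} {k : ℕ}
    (hS : (I ^ k • ⊤ : Submodule A M) ≤ S) : Module.length A (M ⧸ S) < ⊤ := by
  apply CycAlg.Smul.length_lt_top_of_supportDim_le_zero
  refine iSup_le fun l => ?_
  have hmax : ∀ q : Module.support A (M ⧸ S), q.1.asIdeal.IsMaximal := by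
    intro q
    refine h q.1 (Module.support_subset_of_surjective S.mkQ S.mkQ_surjective q.2) fun a ha => ?_
    have hq : Module.annihilator A (M ⧸ S) ≤ q.1.asIdeal := by
      exact (PrimeSpectrum.mem_zeroLocus _ _).1 (Module.support_eq_zeroLocus.subset q.2)
    refine q.1.isPrime.mem_of_pow_mem k (hq (Module.mem_annihilator.2 fun z => ?_))
    obtain ⟨z, rfl⟩ := S.mkQ_surjective z
    rw [← map_smul, Submodule.mkQ_apply, Submodule.Quotient.mk_eq_zero]
    exact hS (Submodule.smul_mem_smul (Ideal.pow_mem_pow ha k) Submodule.mem_top)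
  by_contra hl
  have hpos : 0 < l.length := Nat.pos_of_ne_zero fun h0 => hl (by simp [h0])
  have h01 := l.step ⟨0, hpos⟩
  exact ((hmax _).eq_of_le (hmax _).isPrime.ne_top h01.le |> fun e =>
    h01.ne (Subtype.ext (PrimeSpectrum.ext e)))

theorem length_eq_len (h : Hyp I M) {S : Submodule A M} {k : ℕ}
    (hS : (I ^ k • ⊤ : Submodule A M) ≤ S) : Module.length A (M ⧸ S) = (len S : ℕ∞) :=
  (ENat.natCast_toNat (length_lt_top h hS).ne).symm

theorem length_map_eq (h : Hyp I M) {S T : Submodule A M} (hST : S ≤ T) {k : ℕ}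
    (hS : (I ^ k • ⊤ : Submodule A M) ≤ S) :
    ∃ n : ℕ, Module.length A (T.map S.mkQ) = (n : ℕ∞) ∧ len S = n + len T := by
  have e := length_map_mkQ_add S T hST
  rw [length_eq_len h hS, length_eq_len h (hS.trans hST)] at e
  obtain ⟨n, hn⟩ := ENat.ne_top_iff_exists.1 (fun he : Module.length A (T.map S.mkQ) = ⊤ => by
    rw [he, top_add] at e; exact ENat.natCast_ne_top _ e)
  rw [← hn] at e
  exact ⟨n, hn.symm, by exact_mod_cast e⟩

theorem len_anti (h : Hyp I M) {S T : Submodule A M} (hST : S ≤ T) {k : ℕ}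
    (hS : (I ^ k • ⊤ : Submodule A M) ≤ S) : len T ≤ len S := by
  obtain ⟨n, -, hn⟩ := length_map_eq h hST hS
  lia

/-- A linear map induces isomorphisms of subquotients. -/
theorem len_map_add (hM : Hyp I M) (hN : Hyp I N) (g : M →ₗ[A] N) {T : Submodule A M}
    {S : Submodule A N} {j k : ℕ} (hS : (I ^ k • ⊤ : Submodule A N) ≤ S)
    (hS' : (I ^ j • ⊤ : Submodule A M) ≤ T ⊓ S.comap g) :
    len (T ⊓ S.comap g) + len (S ⊔ T.map g) = len T + len S := by
  obtain ⟨n, hn, hn'⟩ := length_map_eq hN (S := S) (T := S ⊔ T.map g) le_sup_left hS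
  obtain ⟨m, hm, hm'⟩ := length_map_eq hM (S := T ⊓ S.comap g) (T := T) inf_le_left hS'
  let φ : T →ₗ[A] N ⧸ S := S.mkQ.comp (g.comp T.subtype)
  let ψ : T →ₗ[A] M ⧸ (T ⊓ S.comap g) := (T ⊓ S.comap g).mkQ.comp (LinearMap.id.comp T.subtype)
  have hker : LinearMap.ker φ = LinearMap.ker ψ := by
    ext x
    simp [φ, ψ, Submodule.Quotient.mk_eq_zero]
  have e : Module.length A (LinearMap.range φ) = Module.length A (LinearMap.range ψ) :=
    (φ.quotKerEquivRange.symm.trans ((Submodule.quotEquivOfEq _ _ hker).trans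
      ψ.quotKerEquivRange)).length_eq
  rw [range_mkQ_comp, range_mkQ_comp, hn, Submodule.map_id, sup_eq_right.2 inf_le_left, hm] at e
  have : n = m := by exact_mod_cast e
  lia

theorem len_comap_le (hM : Hyp I M) (hN : Hyp I N) (g : M →ₗ[A] N) {S : Submodule A N} {k : ℕ}
    (hS : (I ^ k • ⊤ : Submodule A N) ≤ S) : len (S.comap g) ≤ len S := by
  have hS' := (smul_top_le_comap (I ^ k) g).trans (Submodule.comap_mono (f := g) hS)
  have := len_map_add hM hN g (T := ⊤) hS (j := k) (by rw [top_inf_eq]; exact hS')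
  rw [top_inf_eq, show len (⊤ : Submodule A M) = 0 by simp [len]] at this
  lia

theorem len_comap_eq (hM : Hyp I M) (hN : Hyp I N) (g : M →ₗ[A] N) (hg : Function.Surjective g)
    {S : Submodule A N} {k : ℕ} (hS : (I ^ k • ⊤ : Submodule A N) ≤ S) :
    len (S.comap g) = len S := by
  have hS' := (smul_top_le_comap (I ^ k) g).trans (Submodule.comap_mono (f := g) hS)
  have := len_map_add hM hN g (T := ⊤) hS (j := k) (by rw [top_inf_eq]; exact hS')
  rw [top_inf_eq, Submodule.map_top, LinearMap.range_eq_top.2 hg, sup_top_eq,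
    show len (⊤ : Submodule A M) = 0 by simp [len], show len (⊤ : Submodule A N) = 0 by simp [len]] at this
  lia

/-- The Hilbert–Samuel function of a quotient. -/
theorem chi_quotient (hM : Hyp I M) (hN : Hyp I N) (g : M →ₗ[A] N) (hg : Function.Surjective g)
    (t : ℕ) : chi I N t = len ((I ^ t • ⊤ : Submodule A M) ⊔ LinearMap.ker g) := by
  rw [chi, ← len_comap_eq hM hN g hg le_rfl]
  congr 1
  rw [← Submodule.comap_map_eq, Submodule.map_smul'', Submodule.map_top, LinearMap.range_eq_top.2 hg]

end Groth.Agent.Lib.HilbertSamuel.Basic
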