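import Groth.Agent.Lib.HilbertSamuel.Dim
import Mathlib.Analysis.SpecificLimits.Basic

/-!
# The top coefficient of the Hilbert–Samuel function as a limit
-/

set_option linter.style.haveILetI false

universe u

open Filter Polynomial Topology

namespace Groth.Agent.Lib.HilbertSamuel.Limit

open Basic Poly

theorem tendsto_ratio (c : ℕ) :
    Tendsto (fun t : ℕ => ((t - c : ℕ) : ℝ) / (t : ℝ)) atTop (𝓝 1) := by
  have h : Tendsto (fun t : ℕ => 1 - (c : ℝ) / (t : ℝ)) atTop (𝓝 1) := by
    simpa using (tendsto_const_div_atTop_nhds_zero_nat (c : ℝ)).const_sub 1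
  refine h.congr' ?_
  filter_upwards [eventually_ge_atTop c, eventually_ge_atTop 1] with t ht h1
  rw [Nat.cast_sub ht, sub_div, div_self]
  exact_mod_cast (show t ≠ 0 by lia)

theorem tendsto_shift {f : ℕ → ℝ} {d c : ℕ} {e : ℝ}
    (h : Tendsto (fun t : ℕ => f t / (t : ℝ) ^ d) atTop (𝓝 e)) :
    Tendsto (fun t : ℕ => f (t - c) / (t : ℝ) ^ d) atTop (𝓝 e) := by
  have := (h.comp (tendsto_sub_atTop_nat c)).mul ((tendsto_ratio c).pow d)
  rw [one_pow, mul_one] at this
  refine this.congr' ?_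
  filter_upwards [eventually_gt_atTop c] with t ht
  have h1 : ((t - c : ℕ) : ℝ) ≠ 0 := by exact_mod_cast (show t - c ≠ 0 by lia)
  have h2 : (t : ℝ) ≠ 0 := by exact_mod_cast (show t ≠ 0 by lia)
  simp only [Function.comp_apply, div_pow]
  field_simp

theorem tendsto_zero_of_growth {f : ℕ → ℕ} {n d : ℕ} (hnd : n < d) (hf : Growth f n) :
    Tendsto (fun t : ℕ => (f t : ℝ) / (t : ℝ) ^ d) atTop (𝓝 0) := by
  obtain ⟨C, hC⟩ := hf
  refine squeeze_zero' (.of_forall fun t => by positivity) ?_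
    (tendsto_const_div_atTop_nhds_zero_nat ((C * 2 ^ n : ℕ) : ℝ))
  filter_upwards [eventually_ge_atTop 1] with t ht
  rw [div_le_div_iff₀ (by positivity) (by exact_mod_cast ht)]
  have h1 : f t * t ≤ C * 2 ^ n * t ^ d := by
    calc f t * t ≤ C * (t + 1) ^ n * t := Nat.mul_le_mul_right _ (hC t)
      _ ≤ C * (2 * t) ^ n * t :=
        Nat.mul_le_mul_right _ (Nat.mul_le_mul_left _ (Nat.pow_le_pow_left (by lia) _))
      _ = C * 2 ^ n * t ^ (n + 1) := by ring
      _ ≤ _ := Nat.mul_le_mul_left _ (Nat.pow_le_pow_right ht hnd)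
  exact_mod_cast h1

variable {A : Type u} [CommRing A] [IsNoetherianRing A] {I : Ideal A}
  {M : Type u} [AddCommGroup M] [Module A M] [Module.Finite A M]

theorem tendsto_chi_zero (hJ : I ≤ Ideal.jacobson ⊥) (hM : Hyp I M) {n d : ℕ} (hnd : n < d)
    (hdim : Module.supportDim A M ≤ n) :
    Tendsto (fun t : ℕ => (chi I M t : ℝ) / (t : ℝ) ^ d) atTop (𝓝 0) :=
  tendsto_zero_of_growth hnd (Dim.growth_of_supportDim_le hJ n M hM hdim)

omit [IsNoetherianRing A] [Module.Finite A M] in
theorem tendsto_chi_coeff {P : Polynomial ℚ} (hP : ∀ᶠ t in atTop, (chi I M t : ℚ) = P.eval (t : ℚ))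
    {d : ℕ} (hdeg : P.natDegree ≤ d) :
    Tendsto (fun t : ℕ => (chi I M t : ℝ) / (t : ℝ) ^ d) atTop (𝓝 (P.coeff d : ℝ)) := by
  have hlim : Tendsto (fun t : ℕ => ∑ i ∈ Finset.range (d + 1), (P.coeff i : ℝ) * ((t : ℝ) ^ i / (t : ℝ) ^ d))
      atTop (𝓝 (∑ i ∈ Finset.range (d + 1), (P.coeff i : ℝ) * if i = d then 1 else 0)) := by
    refine tendsto_finsetSum _ fun i hi => Tendsto.const_mul _ ?_
    split_ifs with hid
    · refine tendsto_const_nhds.congr' ?_
      filter_upwards [eventually_ge_atTop 1] with t ht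
      rw [hid, div_self (by positivity)]
    · refine squeeze_zero' (.of_forall fun t => by positivity) ?_ (tendsto_const_div_atTop_nhds_zero_nat (1 : ℝ))
      filter_upwards [eventually_ge_atTop 1] with t ht
      rw [div_le_div_iff₀ (by positivity) (by exact_mod_cast ht), one_mul, ← pow_succ]
      exact pow_le_pow_right₀ (by exact_mod_cast ht) (by have := Finset.mem_range.1 hi; lia)
  simp only [mul_ite, mul_one, mul_zero, Finset.sum_ite_eq', Finset.mem_range, lt_add_one, if_true] at hlim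
  refine hlim.congr' ?_
  filter_upwards [hP] with t ht
  rw [show (chi I M t : ℝ) = ((chi I M t : ℚ) : ℝ) by norm_cast, ht,
    eval_eq_sum_range' (Nat.lt_succ_iff.2 hdeg), Rat.cast_sum, Finset.sum_div]
  refine Finset.sum_congr rfl fun i _ => ?_
  push_cast
  ring

theorem exists_tendsto_chi (hJ : I ≤ Ideal.jacobson ⊥) (hM : Hyp I M) {d : ℕ}
    (hdim : Module.supportDim A M ≤ d) :
    ∃ L : ℝ, Tendsto (fun t : ℕ => (chi I M t : ℝ) / (t : ℝ) ^ d) atTop (𝓝 L) := by
  obtain ⟨P, hP⟩ := Main.exists_poly hM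
  exact ⟨_, tendsto_chi_coeff hP (natDegree_le_of_growth hP (Dim.growth_of_supportDim_le hJ d M hM hdim))⟩

theorem exists_tendsto_chi_pos (hJ : I ≤ Ideal.jacobson ⊥) (hM : Hyp I M) {d : ℕ}
    (hdim : Module.supportDim A M = d) :
    ∃ L : ℝ, 0 < L ∧ Tendsto (fun t : ℕ => (chi I M t : ℝ) / (t : ℝ) ^ d) atTop (𝓝 L) := by
  obtain ⟨P, hP⟩ := Main.exists_poly hM
  have hdeg := natDegree_le_of_growth hP (Dim.growth_of_supportDim_le hJ d M hM hdim.le)
  have hdeg' : d ≤ P.natDegree := by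
    have := Dim.supportDim_le_of_growth hJ P.natDegree M hM (growth_of_le_poly le_rfl (hP.mono fun t ht => ht.le))
    rw [hdim] at this
    exact_mod_cast this
  have hlim := tendsto_chi_coeff hP hdeg
  have hne : P ≠ 0 := by
    intro h0
    haveI : Nontrivial M := by
      by_contra h
      haveI := not_nontrivial_iff_subsingleton.1 h
      simp [Module.supportDim_eq_bot_of_subsingleton] at hdim
    obtain ⟨T, hT⟩ := eventually_atTop.1 hP
    have hbot : Module.length A (M ⧸ (I ^ (T + 1) • ⊤ : Submodule A M)) = 0 := by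
      have h1 := hT (T + 1) (by lia)
      simp only [h0, eval_zero, Nat.cast_eq_zero] at h1
      rw [length_eq_len hM le_rfl]
      exact_mod_cast h1
    rw [Module.length_eq_zero_iff, Submodule.Quotient.subsingleton_iff] at hbot
    have : (⊤ : Submodule A M) = ⊥ := Submodule.eq_bot_of_le_smul_of_le_jacobson_bot I _
      Module.Finite.fg_top (hbot.ge.trans (Submodule.smul_mono_left (Ideal.pow_le_self (Nat.succ_ne_zero T)))) hJ
    exact top_ne_bot this
  refine ⟨_, lt_of_le_of_ne (ge_of_tendsto' hlim fun t => by positivity) ?_, hlim⟩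
  rw [le_antisymm hdeg' hdeg, coeff_natDegree]
  exact_mod_cast (leadingCoeff_ne_zero.2 hne).symm

end Groth.Agent.Lib.HilbertSamuel.Limit
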