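import Groth.Agent.Lib.HilbertSamuel.Basic
import Groth.Agent.Lib.HilbertSamuel.Poly
import Mathlib.RingTheory.Noetherian.Basic

/-!
# The Hilbert–Samuel function is eventually polynomial

Noetherian induction over filtrations `W` with `I ^ (t+1) M ≤ W t ≤ I ^ t M`: multiplication by
`x ∈ I` gives `h W (t+1) = h (W : x) t + h (W + x) (t+1)`.
-/

set_option linter.style.haveILetI false

universe u

open Filter

namespace Groth.Agent.Lib.HilbertSamuel.Main

open Basic Poly

variable {A : Type u} [CommRing A] {I : Ideal A} {M : Type u} [AddCommGroup M] [Module A M]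

/-- Filtrations between `I ^ (t+1) M` and `I ^ t M`. -/
def Adm (W : I.Filtration M) : Prop :=
  (∀ t, W.N t ≤ I ^ t • ⊤) ∧ ∀ t, (I ^ (t + 1) • ⊤ : Submodule A M) ≤ W.N t

variable (M) in
/-- The graded pieces `I ^ t M / W t`. -/
noncomputable def hfun (W : I.Filtration M) (t : ℕ) : ℤ := (len (W.N t) : ℤ) - chi I M t

theorem mul_mem_pow (x : A) (hx : x ∈ I) (t : ℕ) {v : M} (hv : v ∈ (I ^ t • ⊤ : Submodule A M)) :
    x • v ∈ (I ^ (t + 1) • ⊤ : Submodule A M) := by
  rw [pow_succ', mul_smul]
  exact Submodule.smul_mem_smul hx hv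

/-- `W : x`. -/
def colon (W : I.Filtration M) (x : A) (hx : x ∈ I) : I.Filtration M where
  N t := (I ^ t • ⊤) ⊓ (W.N (t + 1)).comap (LinearMap.lsmul A M x)
  mono t := inf_le_inf (Submodule.smul_mono_left (Ideal.pow_le_pow_right (Nat.le_succ t)))
    (Submodule.comap_mono (W.mono (t + 1)))
  smul_le t := Submodule.smul_le.2 fun r hr v hv => by
    refine ⟨mul_mem_pow r hr t hv.1, ?_⟩
    show x • r • v ∈ W.N (t + 1 + 1)
    rw [smul_comm]
    exact W.smul_le (t + 1) (Submodule.smul_mem_smul hr hv.2)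

/-- `W + x`. -/
def addX (W : I.Filtration M) (hW : Adm W) (x : A) (hx : x ∈ I) : I.Filtration M where
  N t := match t with
    | 0 => W.N 0
    | s + 1 => W.N (s + 1) ⊔ (I ^ s • ⊤ : Submodule A M).map (LinearMap.lsmul A M x)
  mono t := by
    match t with
    | 0 =>
      refine sup_le (W.mono 0) ?_
      rintro _ ⟨v, hv, rfl⟩
      exact hW.2 0 (mul_mem_pow x hx 0 hv)
    | s + 1 =>
      exact sup_le_sup (W.mono (s + 1))
        (Submodule.map_mono (Submodule.smul_mono_left (Ideal.pow_le_pow_right (Nat.le_succ s))))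
  smul_le t := Submodule.smul_le.2 fun r hr v hv => by
    match t with
    | 0 => exact Submodule.mem_sup_left (W.smul_le 0 (Submodule.smul_mem_smul hr hv))
    | s + 1 =>
      obtain ⟨w, hw, _, ⟨z, hz, rfl⟩, rfl⟩ := Submodule.mem_sup.1 hv
      rw [smul_add]
      refine add_mem (Submodule.mem_sup_left (W.smul_le _ (Submodule.smul_mem_smul hr hw)))
        (Submodule.mem_sup_right ⟨r • z, mul_mem_pow r hr s hz, ?_⟩)
      simp

theorem adm_colon {W : I.Filtration M} (hW : Adm W) (x : A) (hx : x ∈ I) : Adm (colon W x hx) :=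
  ⟨fun _ => inf_le_left, fun t => le_inf (Submodule.smul_mono_left (Ideal.pow_le_pow_right (Nat.le_succ t)))
    fun _ hv => hW.2 (t + 1) (mul_mem_pow x hx (t + 1) hv)⟩

theorem le_colon {W : I.Filtration M} (hW : Adm W) (x : A) (hx : x ∈ I) : W ≤ colon W x hx :=
  fun t => le_inf (hW.1 t) fun _ hv => W.smul_le t (Submodule.smul_mem_smul hx hv)

theorem adm_addX {W : I.Filtration M} (hW : Adm W) (x : A) (hx : x ∈ I) : Adm (addX W hW x hx) := by
  refine ⟨fun t => ?_, fun t => ?_⟩
  · match t with
    | 0 => exact hW.1 0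
    | s + 1 =>
      refine sup_le (hW.1 _) ?_
      rintro _ ⟨v, hv, rfl⟩
      exact mul_mem_pow x hx s hv
  · match t with
    | 0 => exact hW.2 0
    | s + 1 => exact (hW.2 (s + 1)).trans le_sup_left

theorem le_addX {W : I.Filtration M} (hW : Adm W) (x : A) (hx : x ∈ I) : W ≤ addX W hW x hx := fun t =>
  match t with
  | 0 => le_rfl
  | _ + 1 => le_sup_left

variable [IsNoetherianRing A] [Module.Finite A M]

theorem hfun_succ (h : Hyp I M) {W : I.Filtration M} (hW : Adm W) (x : A) (hx : x ∈ I) (t : ℕ) :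
    hfun M W (t + 1) = hfun M (colon W x hx) t + hfun M (addX W hW x hx) (t + 1) := by
  have hle : (I ^ (t + 1) • ⊤ : Submodule A M) ≤ (colon W x hx).N t := (adm_colon hW x hx).2 t
  have := len_map_add h h (LinearMap.lsmul A M x) (T := I ^ t • ⊤) (S := W.N (t + 1)) (hW.2 (t + 1)) hle
  show (len (W.N (t + 1)) : ℤ) - chi I M (t + 1) =
    (len ((I ^ t • ⊤) ⊓ (W.N (t + 1)).comap (LinearMap.lsmul A M x)) : ℤ) - chi I M t +
      ((len (W.N (t + 1) ⊔ (I ^ t • ⊤ : Submodule A M).map (LinearMap.lsmul A M x)) : ℤ) -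
        chi I M (t + 1))
  rw [show len (I ^ t • ⊤ : Submodule A M) = chi I M t from rfl] at this
  lia

omit [IsNoetherianRing A] [Module.Finite A M] in
theorem submodule_strictMono : StrictMono fun F : I.Filtration M => F.submodule := by
  have hmono : Monotone fun F : I.Filtration M => F.submodule := fun F G hFG f hf i => hFG i (hf i)
  refine hmono.strictMono_of_injective fun F G hFG => ?_
  refine Ideal.Filtration.ext ?_
  funext i
  have key : ∀ (F : I.Filtration M) (m : M), PolynomialModule.single A i m ∈ F.submodule ↔ m ∈ F.N i := by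
    intro F m
    refine ⟨fun hm => by simpa using hm i, fun hm j => ?_⟩
    rw [PolynomialModule.coeff_single, Finsupp.single_apply]
    split_ifs with hij
    · exact hij ▸ hm
    · exact zero_mem _
  ext m
  rw [← key, ← key]
  exact SetLike.ext_iff.1 hFG _

theorem evPoly_hfun (h : Hyp I M) : ∀ W : I.Filtration M, Adm W → EvPoly (hfun M W) := by
  let F₀ := (I.stableFiltration (⊤ : Submodule A M)).submodule
  have hfg : F₀.FG := (Ideal.Filtration.submodule_fg_iff_stable _ fun _ => IsNoetherian.noetherian _).2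
    (I.stableFiltration_stable ⊤)
  haveI : IsNoetherian (reesAlgebra I) F₀ := isNoetherian_of_fg_of_noetherian _ hfg
  let ι : {W : I.Filtration M // Adm W} → Submodule (reesAlgebra I) F₀ :=
    fun W => W.1.submodule.comap F₀.subtype
  have hι : StrictMono ι := by
    intro W W' hlt
    have hlt' := submodule_strictMono (show W.1 < W'.1 from hlt)
    have hle : ∀ V : {W : I.Filtration M // Adm W}, V.1.submodule ≤ F₀ :=
      fun V f hf i => V.2.1 i (hf i)
    refine lt_of_le_of_ne (Submodule.comap_mono hlt'.le) fun he => hlt'.ne ?_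
    show W.1.submodule = W'.1.submodule
    rw [← inf_eq_right.2 (hle W), ← inf_eq_right.2 (hle W'), ← Submodule.map_comap_subtype,
      ← Submodule.map_comap_subtype]
    exact congrArg (Submodule.map F₀.subtype) he
  intro W hW
  suffices H : ∀ V : {W : I.Filtration M // Adm W}, EvPoly (hfun M V.1) from H ⟨W, hW⟩
  intro V
  induction V using (InvImage.wf ι
    (wellFounded_gt (α := Submodule (reesAlgebra I) F₀))).induction with
  | _ V IH =>
    obtain ⟨W, hW⟩ := V
    by_cases hall : ∀ x (hx : x ∈ I), addX W hW x hx ≤ W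
    · refine evPoly_zero.congr (eventually_atTop.2 ⟨1, fun t ht => ?_⟩)
      obtain ⟨s, rfl⟩ : ∃ s, t = s + 1 := ⟨t - 1, by lia⟩
      have : W.N (s + 1) = I ^ (s + 1) • ⊤ := by
        refine le_antisymm (hW.1 _) ?_
        rw [pow_succ', mul_smul]
        exact Submodule.smul_le.2 fun r hr v hv => hall r hr (s + 1) (Submodule.mem_sup_right ⟨v, hv, rfl⟩)
      simp [hfun, this, chi]
    · simp only [not_forall] at hall
      obtain ⟨x, hx, hx'⟩ := hall
      have h2 : EvPoly (hfun M (addX W hW x hx)) := IH ⟨_, adm_addX hW x hx⟩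
        (hι (lt_of_le_not_ge (le_addX hW x hx) hx'))
      by_cases hc : colon W x hx = W
      · refine h2.succ.of_diff (.of_forall fun t => ?_)
        rw [hfun_succ h hW x hx t, hc]
      · have h1 : EvPoly (hfun M (colon W x hx)) := IH ⟨_, adm_colon hW x hx⟩
          (hι (lt_of_le_of_ne (le_colon hW x hx) fun e => hc (congrArg Subtype.val e).symm))
        exact EvPoly.of_succ ((h1.add h2.succ).congr (.of_forall fun t => (hfun_succ h hW x hx t).symm))

/-- Hilbert–Samuel. -/
theorem evPoly_chi (h : Hyp I M) : EvPoly fun t => (chi I M t : ℤ) := by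
  let W : I.Filtration M :=
    { N := fun t => I ^ (t + 1) • ⊤
      mono := fun t => Submodule.smul_mono_left (Ideal.pow_le_pow_right (Nat.le_succ _))
      smul_le := fun t => by rw [← mul_smul, ← pow_succ'] }
  have hW : Adm W := ⟨fun t => Submodule.smul_mono_left (Ideal.pow_le_pow_right (Nat.le_succ _)),
    fun t => le_rfl⟩
  refine (evPoly_hfun h W hW).of_diff (.of_forall fun t => ?_)
  show (chi I M (t + 1) : ℤ) = chi I M t + ((len (I ^ (t + 1) • ⊤ : Submodule A M) : ℤ) - chi I M t)
  rw [show len (I ^ (t + 1) • ⊤ : Submodule A M) = chi I M (t + 1) from rfl]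
  ring

theorem exists_poly (h : Hyp I M) :
    ∃ P : Polynomial ℚ, ∀ᶠ t in atTop, (chi I M t : ℚ) = P.eval (t : ℚ) := by
  obtain ⟨P, hP⟩ := evPoly_chi h
  exact ⟨P, hP.mono fun t ht => by simpa using ht⟩

end Groth.Agent.Lib.HilbertSamuel.Main
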